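import Mathlib
import Groth.Agent.DimSpec.Scheme
import Groth.Agent.VarDim.Scheme
import Groth.Agent.QSect.Scheme
import Groth.Prelude.Def_Flat

/-!
Chevalley semicontinuity: fibre dimensions do not drop under specialization (EGA IV 13.1.3, pointwise form).
-/

set_option autoImplicit false
set_option linter.style.haveILetI false
universe u
open CategoryTheory AlgebraicGeometry Limits Topology
open scoped TensorProduct

noncomputable section

namespace Groth.Agent.FibSemi

variable {A B : Type u} [CommRing A] [CommRing B] [Algebra A B]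

/-- A chain in the generic fibre of a finitely generated domain is no longer than the height of a closed
point in a special fibre. -/
theorem length_le_of_chain [IsDomain B] [Algebra.FiniteType A B] (P : Ideal B) [P.IsPrime] {d : ℕ}
    (hmax : ∀ Q : Ideal B, Q.IsPrime → P ≤ Q → Q.comap (algebraMap A B) = P.comap (algebraMap A B) → Q = P)
    (hle : ∀ l : LTSeries (PrimeSpectrum B), (∀ i, (l i).asIdeal.comap (algebraMap A B) = P.comap (algebraMap A B)) →
      l.last.asIdeal = P → l.length ≤ d)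
    (l : LTSeries (PrimeSpectrum B)) (hhead : l.head.asIdeal = ⊥)
    (hl : ∀ i, (l i).asIdeal.comap (algebraMap A B) = (⊥ : Ideal B).comap (algebraMap A B)) : l.length ≤ d := by
  classical
  obtain ⟨a, haP, hmin⟩ := QSect.exists_params (A := A) P hle
  let S := MvPolynomial (Fin d) A
  letI algSB : Algebra S B := (MvPolynomial.aeval (R := A) a).toRingHom.toAlgebra
  haveI : IsScalarTower A S B := IsScalarTower.of_algebraMap_eq fun c => (MvPolynomial.aeval_C a c).symm
  haveI : Algebra.FiniteType S B := .of_restrictScalars_finiteType A S B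
  have hqf : Algebra.QuasiFiniteAt S P := by
    let P'' : PrimeSpectrum B := ⟨P, inferInstance⟩
    refine Algebra.QuasiFiniteAt.of_isOpen_singleton_fiber (R := S) P'' ?_
    let p' := P''.comap (algebraMap S B)
    haveI := p'.isPrime
    let H := PrimeSpectrum.preimageHomeomorphFiber S B p'
    haveI : IsNoetherianRing (p'.asIdeal.Fiber B) := Algebra.FiniteType.isNoetherianRing p'.asIdeal.ResidueField _
    haveI : IsJacobsonRing (p'.asIdeal.Fiber B) := isJacobsonRing_of_finiteType (A := p'.asIdeal.ResidueField)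
    rw [← H.isOpen_image, Set.image_singleton,
      (PrimeSpectrum.isOpen_singleton_tfae_of_isNoetherian_of_isJacobsonRing _).out 0 2 rfl rfl]
    have huniq : ∀ z : PrimeSpectrum.comap (algebraMap S B) ⁻¹' {p'}, z.1 ≤ P'' ∨ P'' ≤ z.1 → z.1 = P'' := by
      intro z hz
      have hz2 : z.1.asIdeal.comap (algebraMap S B) = P.comap (algebraMap S B) :=
        congrArg PrimeSpectrum.asIdeal z.2
      have hQA : z.1.asIdeal.comap (algebraMap A B) = P.comap (algebraMap A B) := by
        rw [IsScalarTower.algebraMap_eq A S B, ← Ideal.comap_comap, ← Ideal.comap_comap, hz2]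
      have haQ : ∀ j, a j ∈ z.1.asIdeal := fun j => by
        have h1 : (MvPolynomial.X j : S) ∈ P.comap (algebraMap S B) := by
          rw [Ideal.mem_comap, show algebraMap S B (MvPolynomial.X j) = a j from MvPolynomial.aeval_X a j]
          exact haP j
        rw [← hz2, Ideal.mem_comap, show algebraMap S B (MvPolynomial.X j) = a j from MvPolynomial.aeval_X a j] at h1
        exact h1
      refine PrimeSpectrum.ext ?_
      rcases hz with h | h
      · exact hmin _ z.1.isPrime hQA haQ h
      · exact hmax _ z.1.isPrime h hQA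
    let E := PrimeSpectrum.preimageOrderIsoFiber S B p'
    have hHE : ∀ z, H z = E z := fun _ => rfl
    refine ⟨?_, ?_⟩
    · rw [PrimeSpectrum.isClosed_singleton_iff_isMaximal, ← PrimeSpectrum.isMax_iff]
      intro z hz
      obtain ⟨z, rfl⟩ := E.surjective z
      rw [hHE] at hz ⊢
      exact E.le_iff_le.mpr (huniq z (Or.inr (E.le_iff_le.mp hz))).le
    · intro x y hyx hx
      rw [Set.mem_singleton_iff] at hx ⊢
      subst hx
      obtain ⟨z, rfl⟩ := E.surjective y
      rw [hHE]
      refine congrArg E (Subtype.ext (huniq z (Or.inl ?_)))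
      exact E.le_iff_le.mp ((PrimeSpectrum.le_iff_specializes _ _).mpr hyx)
  obtain ⟨r, hrP, hr⟩ := (Algebra.zariskisMainProperty_iff' (R := S)).mp
    (Algebra.ZariskisMainProperty.of_finiteType (R := S) P)
  let N0 : Ideal A := (⊥ : Ideal B).comap (algebraMap A B)
  haveI : (⊥ : Ideal B).IsPrime := Ideal.isPrime_bot
  haveI : N0.IsPrime := Ideal.comap_isPrime _ _
  let A' := A ⧸ N0
  haveI : IsDomain A' := Ideal.Quotient.isDomain _
  letI algAB : Algebra A' B := (Ideal.Quotient.lift N0 (algebraMap A B) (fun c hc => hc)).toAlgebra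
  haveI : IsScalarTower A A' B := IsScalarTower.of_algebraMap_eq fun _ => rfl
  have hinj : Function.Injective (algebraMap A' B) := RingHom.lift_injective_of_ker_le_ideal _ (fun c hc => hc) (fun c hc => hc)
  haveI : FaithfulSMul A' B := (faithfulSMul_iff_algebraMap_injective _ _).mpr hinj
  obtain ⟨c, hc⟩ := DimSpec.exists_indep_of_chain N0 l fun i => PrimeSpectrum.ext (hl i)
  rw [hhead] at hc
  have hindep : AlgebraicIndependent A' c := by
    refine algebraicIndependent_iff.mpr fun G hG => ?_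
    obtain ⟨Q, rfl⟩ := MvPolynomial.map_surjective (Ideal.Quotient.mk N0) Ideal.Quotient.mk_surjective G
    by_contra hne
    obtain ⟨m, hm⟩ := MvPolynomial.ne_zero_iff.mp hne
    rw [MvPolynomial.coeff_map] at hm
    refine hc Q ⟨m, fun h => hm (Ideal.Quotient.eq_zero_iff_mem.mpr h)⟩ ?_
    rw [show Ideal.Quotient.mk N0 = algebraMap A A' from rfl, MvPolynomial.aeval_map_algebraMap] at hG
    rw [Submodule.mem_bot]
    exact hG
  have hr0 : r ≠ 0 := fun h => hrP (h ▸ zero_mem _)
  haveI : Algebra.IsAlgebraic (Algebra.adjoin A' (Set.range a)) B := ⟨fun x => by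
    obtain ⟨m, hm⟩ := hr x
    obtain ⟨n, hn⟩ := hr r
    rw [← pow_succ] at hn
    have hrint : IsIntegral S r := (IsIntegral.pow_iff n.succ_pos).mp hn
    let φ : S →+* Algebra.adjoin A' (Set.range a) :=
      (MvPolynomial.aeval (R := A) a).toRingHom.codRestrict _ fun s => by
        induction s using MvPolynomial.induction_on with
        | C c =>
          show MvPolynomial.aeval a (MvPolynomial.C c) ∈ _
          rw [MvPolynomial.aeval_C, IsScalarTower.algebraMap_apply A A' B]
          exact Subalgebra.algebraMap_mem _ _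
        | add f g hf hg => simpa using add_mem hf hg
        | mul_X f j hf =>
          show MvPolynomial.aeval a (f * MvPolynomial.X j) ∈ _
          rw [map_mul, MvPolynomial.aeval_X]
          exact mul_mem hf (Algebra.subset_adjoin ⟨j, rfl⟩)
    have tr : ∀ y : B, IsIntegral S y → IsIntegral (Algebra.adjoin A' (Set.range a)) y := by
      rintro y ⟨f, hf, hfy⟩
      refine ⟨f.map φ, hf.map _, ?_⟩
      rw [Polynomial.eval₂_map]
      exact hfy
    have h1 : IsAlgebraic (Algebra.adjoin A' (Set.range a)) (r ^ m * x) := (tr _ hm).isAlgebraic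
    have h2 : IsAlgebraic (Algebra.adjoin A' (Set.range a)) (r ^ m) := (tr _ (hrint.pow m)).isAlgebraic
    exact (IsAlgebraic.of_mul (mem_nonZeroDivisors_of_ne_zero (pow_ne_zero m hr0)) h2
      (mul_comm x (r ^ m) ▸ h1))⟩
  have h1 : (l.length : Cardinal.{u}) ≤ Algebra.trdeg A' B := by simpa using hindep.lift_cardinalMk_le_trdeg
  have h2 : Algebra.trdeg A' B ≤ d := by
    refine (Algebra.IsAlgebraic.trdeg_le_cardinalMk A' (Set.range a)).trans ?_
    simpa using (Cardinal.mk_range_le_lift (f := a))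
  exact_mod_cast h1.trans h2

attribute [local instance] specializationOrder

section Top

variable {Z : Type u} [TopologicalSpace Z] [T0Space Z]

/-- A chain of specializations inside a subset bounds its dimension from below. -/
theorem length_le_topDim {S : Set Z} (l : LTSeries Z) (hl : ∀ i, l i ∈ S) :
    ((l.length : ℕ∞) : WithBot ℕ∞) ≤ topologicalKrullDim ↥S := by
  let g : Fin (l.length + 1) → TopologicalSpace.IrreducibleCloseds S := fun i =>
    ⟨closure {(⟨l i, hl i⟩ : S)}, isIrreducible_singleton.closure, isClosed_closure⟩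
  have hg : StrictMono g := by
    intro i j hij
    have h1 : (⟨l j, hl j⟩ : S) ⤳ ⟨l i, hl i⟩ := (subtype_specializes_iff _ _).mpr (l.strictMono hij).le
    refine lt_of_le_of_ne (closure_minimal (Set.singleton_subset_iff.mpr h1.mem_closure) isClosed_closure) fun h => ?_
    have h2 : (⟨l i, hl i⟩ : S) ⤳ ⟨l j, hl j⟩ := by
      rw [specializes_iff_mem_closure]
      exact (congrArg (fun C : TopologicalSpace.IrreducibleCloseds S => (C : Set S)) h).symm.subset
        (subset_closure rfl)
    exact (l.strictMono hij).ne (congrArg Subtype.val (h1.antisymm h2).eq).symm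
  exact Order.le_krullDim_iff.mpr ⟨LTSeries.mk _ g hg, rfl⟩

end Top

variable {X Y : Scheme.{u}} (f : X ⟶ Y) [LocallyOfFiniteType f]

/-- Every point has, in any neighbourhood, a specialization closed in its fibre. -/
theorem exists_closed_in_fibre (x : X) (U : X.Opens) (hx : x ∈ U) :
    ∃ z ∈ U, x ⤳ z ∧ f z = f x ∧ ∀ z' : X, f z' = f z → z ⤳ z' → z' = z := by
  let y := f x
  let k := Y.residueField y
  letI : (f.fiber y).Over (Spec (CommRingCat.of k)) := ⟨f.fiberToSpecResidueField y⟩
  haveI : LocallyOfFiniteType (f.fiber y ↘ Spec (CommRingCat.of k)) :=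
    inferInstanceAs (LocallyOfFiniteType (pullback.snd f (Y.fromSpecResidueField y)))
  obtain ⟨z, hz, hzU, hz0⟩ := VarDim.exists_le_dimPt_eq_zero k (f.asFiber x) (f.fiberι y ⁻¹ᵁ U)
    (show f.fiberι y (f.asFiber x) ∈ U by rw [f.fiberι_asFiber]; exact hx)
  have hmem : ∀ w, f (f.fiberι y w) = y := fun w => by
    have : f.fiberι y w ∈ Set.range (f.fiberι y) := ⟨w, rfl⟩
    rwa [f.range_fiberι] at this
  have hxz : x ⤳ f.fiberι y z := f.fiberι_asFiber x ▸ Specializes.map hz (f.fiberι y).continuous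
  refine ⟨f.fiberι y z, hzU, hxz, hmem z, fun z' hz' hzz' => ?_⟩
  obtain ⟨w, rfl⟩ : z' ∈ Set.range (f.fiberι y) := by
    rw [f.range_fiberι]; exact hz'.trans (hmem z)
  have hwz : w ≤ z := (f.fiberι y).isEmbedding.specializes_iff.mp hzz'
  rcases eq_or_lt_of_le hwz with h | h
  · rw [h]
  · exact absurd (hz0 ▸ VarDim.dimPt_lt_of_lt k h) (Nat.not_lt_zero _)

/-- A chain below `ξ` in its fibre can be moved into any neighbourhood of `ξ`. -/
theorem exists_chain_top (l : LTSeries X) (hl : ∀ i, f (l i) = f l.last) (W : X.Opens) (hW : l.last ∈ W) :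
    ∃ l' : LTSeries X, l'.last = l.last ∧ (∀ i, f (l' i) = f l.last ∧ l' i ∈ W) ∧ l.length ≤ l'.length := by
  generalize hξ : l.last = ξ at hl hW
  let y := f ξ
  let F := f.fiber y
  let k := Y.residueField y
  letI : F.Over (Spec (CommRingCat.of k)) := ⟨f.fiberToSpecResidueField y⟩
  haveI : LocallyOfFiniteType (F ↘ Spec (CommRingCat.of k)) :=
    inferInstanceAs (LocallyOfFiniteType (pullback.snd f (Y.fromSpecResidueField y)))
  let ξ' : F := f.asFiber ξ
  have hι : f.fiberι y ξ' = ξ := f.fiberι_asFiber ξ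
  have hemb : IsEmbedding (f.fiberι y) := (f.fiberι y).isEmbedding
  choose w hw using fun i => (show l i ∈ Set.range (f.fiberι y) by rw [f.range_fiberι]; exact hl i)
  have hwm : StrictMono w := fun i j hij => by
    refine lt_of_le_of_ne (hemb.specializes_iff.mp ?_) fun h => (l.strictMono hij).ne (by rw [← hw, ← hw, h])
    rw [hw, hw]
    exact (l.strictMono hij).le
  have hh : (l.length : ℕ∞) ≤ Order.height ξ' := Order.length_le_height (p := LTSeries.mk l.length w hwm) (by
    show w (Fin.last _) ≤ ξ'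
    rw [hemb.injective ((hw _).trans (hξ.trans hι.symm))])
  rw [VarDim.height_eq_dimPt k] at hh
  obtain ⟨z, hz, hzW, hz0⟩ := VarDim.exists_le_dimPt_eq_zero k ξ' (f.fiberι y ⁻¹ᵁ W)
    (show f.fiberι y ξ' ∈ W by rw [hι]; exact hW)
  obtain ⟨-, m, hmh, hml, hmlen⟩ := VarDim.exists_ltSeries_of_le k hz
  have hmlast : m.last = ξ' := by
    rcases eq_or_lt_of_le hml with h | h
    · exact h
    · exfalso
      have := Order.length_le_height (show (m.snoc ξ' h).last ≤ ξ' by simp)
      rw [VarDim.height_eq_dimPt k] at this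
      simp only [RelSeries.snoc_length] at this
      have := ENat.natCast_le_natCast.mp this
      omega
  have hstr : StrictMono (fun w : F => f.fiberι y w) := fun a b hab =>
    lt_of_le_of_ne (Specializes.map hab.le (f.fiberι y).continuous) fun h => hab.ne (hemb.injective h)
  have hinW : ∀ i, f.fiberι y (m i) ∈ W := fun i => by
    have h1 : m i ⤳ z := hmh ▸ m.monotone (Fin.zero_le i)
    exact (h1.map (f.fiberι y).continuous).mem_open W.isOpen hzW
  refine ⟨m.map _ hstr, ?_, fun i => ⟨?_, hinW i⟩, ?_⟩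
  · show f.fiberι y m.last = ξ
    rw [hmlast, hι]
  · have : f.fiberι y (m i) ∈ Set.range (f.fiberι y) := ⟨_, rfl⟩
    rwa [f.range_fiberι] at this
  · show l.length ≤ m.length
    have := ENat.natCast_le_natCast.mp hh
    omega

/-- Chevalley: if `l` is a chain in the fibre of `ξ` topped by `ξ`, and `x` is a specialization of `ξ`
closed in its fibre, then there is a chain of at least the same length in the fibre of `x`, starting at
`x` and inside the closure of `ξ`. -/
theorem exists_chain_of_specializes (l : LTSeries X) (hl : ∀ i, f (l i) = f l.last) (x : X) (hx : l.last ⤳ x)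
    (hcl : ∀ x' : X, f x' = f x → x ⤳ x' → x' = x) :
    ∃ l' : LTSeries X, l'.head = x ∧ (∀ i, f (l' i) = f x ∧ l.last ⤳ l' i) ∧ l.length ≤ l'.length := by
  by_contra! hcon
  generalize hξ : l.last = ξ at hl hx hcon
  obtain ⟨V, hV, hyV, -⟩ := exists_isAffineOpen_mem_and_subset (U := ⊤) (x := f x) trivial
  obtain ⟨W, hW, hxW, eWsub⟩ := exists_isAffineOpen_mem_and_subset (U := f ⁻¹ᵁ V) (x := x) hyV
  have eW : W ≤ f ⁻¹ᵁ V := eWsub
  letI : Algebra Γ(Y, V) Γ(X, W) := (f.appLE V W eW).hom.toAlgebra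
  haveI : Algebra.FiniteType Γ(Y, V) Γ(X, W) := LocallyOfFiniteType.finiteType_appLE f hV hW eW
  obtain ⟨m, hmlast, hm, hmlen⟩ := exists_chain_top f l (hξ ▸ hl) W (hξ ▸ hx.mem_open W.isOpen hxW)
  rw [hξ] at hmlast hm
  have hpos : 0 < l.length := by
    by_contra h
    exact hcon (RelSeries.singleton _ x) rfl (fun i => ⟨rfl, hx⟩) |>.not_ge (by simp; omega)
  obtain ⟨P, hP⟩ := DimSpec.exists_fromSpec hW hxW
  obtain ⟨q, hq⟩ := DimSpec.exists_fromSpec hW (hx.mem_open W.isOpen hxW)
  choose p hp using fun i => DimSpec.exists_fromSpec hW (hm i).2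
  have hle_iff : ∀ a b : PrimeSpectrum Γ(X, W), a ≤ b ↔ hW.fromSpec a ⤳ hW.fromSpec b := fun a b =>
    (PrimeSpectrum.le_iff_specializes a b).trans hW.fromSpec.isOpenEmbedding.isEmbedding.specializes_iff.symm
  have hover : ∀ a b : PrimeSpectrum Γ(X, W),
      f (hW.fromSpec a) = f (hW.fromSpec b) ↔
        a.asIdeal.comap (algebraMap Γ(Y, V) Γ(X, W)) = b.asIdeal.comap (algebraMap Γ(Y, V) Γ(X, W)) := fun a b => by
    rw [DimSpec.app_fromSpec hV hW eW, DimSpec.app_fromSpec hV hW eW]
    exact hV.fromSpec.isOpenEmbedding.injective.eq_iff.trans PrimeSpectrum.ext_iff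
  haveI := q.isPrime
  haveI := P.isPrime
  have hqP : q ≤ P := (hle_iff q P).mpr (by rw [hq, hP]; exact hx)
  let D := Γ(X, W) ⧸ q.asIdeal
  let O := Ideal.primeSpectrumQuotientOrderIsoZeroLocus q.asIdeal
  let π : PrimeSpectrum D → PrimeSpectrum Γ(X, W) := fun z => (O z).1
  have hπ : StrictMono π := fun z w h => O.strictMono h
  have hπA : ∀ z, (π z).asIdeal.comap (algebraMap Γ(Y, V) Γ(X, W)) = z.asIdeal.comap (algebraMap Γ(Y, V) D) :=
    fun z => rfl
  have hPm : q ≤ P := hqP
  let P' : PrimeSpectrum D := O.symm ⟨P, hqP⟩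
  have hP' : π P' = P := congrArg Subtype.val (O.apply_symm_apply _)
  have hqbot : ∀ z : PrimeSpectrum D, π z = q → z.asIdeal = ⊥ := fun z hz => by
    let b : PrimeSpectrum D := ⟨⊥, Ideal.isPrime_bot⟩
    have h1 : π b = q := PrimeSpectrum.ext (by
      show (⊥ : Ideal D).comap (Ideal.Quotient.mk q.asIdeal) = q.asIdeal
      rw [← RingHom.ker_eq_comap_bot, Ideal.mk_ker])
    rw [show z = b from O.injective (Subtype.ext (hz.trans h1.symm))]
  have hmq : ∀ i : Fin (m.length + 1), q ≤ p i.rev := fun i => (hle_iff _ _).mpr (by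
    rw [hp, hq, ← hmlast]
    exact m.monotone (Fin.le_last _))
  let pD : Fin (m.length + 1) → PrimeSpectrum D := fun i => O.symm ⟨p i.rev, hmq i⟩
  have hpD : ∀ i, π (pD i) = p i.rev := fun i => congrArg Subtype.val (O.apply_symm_apply _)
  have hpDm : StrictMono pD := fun i j hij => by
    refine O.symm.strictMono ?_
    show p i.rev < p j.rev
    have h0 := m.strictMono (Fin.rev_lt_rev.mpr hij)
    refine lt_of_le_of_ne ((hle_iff _ _).mpr (by rw [hp, hp]; exact h0.le)) fun h => ?_
    exact h0.ne (by rw [← hp, ← hp, h])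
  have hpfib : ∀ i, (p i).asIdeal.comap (algebraMap Γ(Y, V) Γ(X, W)) = q.asIdeal.comap (algebraMap Γ(Y, V) Γ(X, W)) :=
    fun i => (hover _ _).mp (by rw [hp, hq]; exact (hm i).1)
  haveI : Algebra.FiniteType Γ(Y, V) D := .of_surjective (Ideal.Quotient.mkₐ _ q.asIdeal) Ideal.Quotient.mk_surjective
  haveI : IsDomain D := Ideal.Quotient.isDomain _
  haveI := P'.isPrime
  have hbotA : (⊥ : Ideal D).comap (algebraMap Γ(Y, V) D) = q.asIdeal.comap (algebraMap Γ(Y, V) Γ(X, W)) := by
    rw [show algebraMap Γ(Y, V) D = (Ideal.Quotient.mk q.asIdeal).comp (algebraMap Γ(Y, V) Γ(X, W)) from rfl,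
      ← Ideal.comap_comap, ← RingHom.ker_eq_comap_bot, Ideal.mk_ker]
  have hP'A : P'.asIdeal.comap (algebraMap Γ(Y, V) D) = P.asIdeal.comap (algebraMap Γ(Y, V) Γ(X, W)) := by
    rw [← hπA, hP']
  have key := length_le_of_chain (A := Γ(Y, V)) (B := D) P'.asIdeal (d := l.length - 1)
    (fun Q hQ hPQ hQA => by
      let Q' : PrimeSpectrum D := ⟨Q, hQ⟩
      have h1 := hcl (hW.fromSpec (π Q')) (by
        rw [← hP]; exact (hover _ _).mpr (by rw [hπA, ← hP'A]; exact hQA))
        (by rw [← hP]; exact (hle_iff P (π Q')).mp (hP' ▸ hπ.monotone (show P' ≤ Q' from hPQ)))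
      rw [← hP] at h1
      exact congrArg PrimeSpectrum.asIdeal (O.injective (Subtype.ext
        ((hW.fromSpec.isOpenEmbedding.injective h1).trans hP'.symm) : O Q' = O P')))
    (fun c hc hclast => by
      have hstr : StrictMono (fun j : Fin (c.length + 1) => hW.fromSpec (π (c j.rev))) := fun i j hij => by
        have h0 := hπ (c.strictMono (Fin.rev_lt_rev.mpr hij))
        exact lt_of_le_of_ne ((hle_iff _ _).mp h0.le) fun h => h0.ne' (hW.fromSpec.isOpenEmbedding.injective h)
      have hlt := hcon (LTSeries.mk c.length _ hstr) (by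
          show hW.fromSpec (π (c (Fin.rev 0))) = x
          rw [Fin.rev_zero, show c (Fin.last _) = P' from PrimeSpectrum.ext hclast, hP', hP])
        (fun i => ⟨by
          show f (hW.fromSpec (π _)) = f x
          rw [← hP]
          exact (hover _ _).mpr (by rw [hπA, hc, hP'A]), by
          show ξ ⤳ hW.fromSpec (π _)
          rw [← hq]
          exact (hle_iff _ _).mp (O _).2⟩)
      have : c.length < l.length := hlt
      omega)
    (LTSeries.mk m.length pD hpDm) (hqbot _ (by
      rw [show (LTSeries.mk m.length pD hpDm).head = pD 0 from rfl, hpD, Fin.rev_zero]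
      refine hW.fromSpec.isOpenEmbedding.injective ?_
      rw [hp, hq]
      exact hmlast))
    (fun i => by
      rw [hbotA, ← hπA, show π ((LTSeries.mk m.length pD hpDm) i) = p _ from hpD i]
      exact hpfib _)
  have : m.length ≤ l.length - 1 := key
  omega

end Groth.Agent.FibSemi

namespace Groth.Agent.FibSemi

attribute [local instance] specializationOrder

variable {X Y : Scheme.{u}} (f : X ⟶ Y) [LocallyOfFiniteType f]

/-- Chevalley semicontinuity: the dimension of the closure of `ξ` in its fibre is at most the dimension, in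
any neighbourhood of a specialization `x`, of the closure of `ξ` in the fibre of `x`. -/
theorem topDim_closure_inter_fibre_le {ξ x : X} (h : ξ ⤳ x) (U : X.Opens) (hx : x ∈ U) :
    topologicalKrullDim ↥(closure {ξ} ∩ f ⁻¹' {f ξ}) ≤
      topologicalKrullDim ↥((U : Set X) ∩ closure {ξ} ∩ f ⁻¹' {f x}) := by
  let S := closure {ξ} ∩ f ⁻¹' {f ξ}
  let Sf : Set (f ⁻¹' {f ξ}) := Subtype.val ⁻¹' closure {ξ}
  haveI : QuasiSober (f ⁻¹' {f ξ}) := (f.fiberHomeo (f ξ)).symm.isClosedEmbedding.quasiSober
  haveI : QuasiSober Sf := (isClosed_closure.preimage continuous_subtype_val).isClosedEmbedding_subtypeVal.quasiSober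
  let e : Sf ≃ₜ S :=
    { toFun := fun x => ⟨x.1.1, x.2, x.1.2⟩
      invFun := fun x => ⟨⟨x.1, x.2.2⟩, x.2.1⟩
      left_inv := fun _ => rfl
      right_inv := fun _ => rfl
      continuous_toFun := by fun_prop
      continuous_invFun := by fun_prop }
  haveI : QuasiSober S := e.symm.isClosedEmbedding.quasiSober
  rw [show topologicalKrullDim ↥(closure {ξ} ∩ f ⁻¹' {f ξ}) = Order.krullDim S from
    (DimLift.topDim_eq_krullDim_points (X := S)).trans (by
      congr 1
      exact Preorder.ext fun a b => subtype_specializes_iff b a)]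
  refine iSup_le fun l => ?_
  let l₀ : LTSeries X := LTSeries.mk l.length (fun i => (l i).1) fun i j hij => by
    exact l.strictMono hij
  have hl₀ : ∀ i, ξ ⤳ l₀ i ∧ f (l₀ i) = f ξ := fun i =>
    ⟨specializes_iff_mem_closure.mpr (l i).2.1, (l i).2.2⟩
  obtain ⟨l₁, hlast, hl₁, hlen⟩ : ∃ l₁ : LTSeries X, l₁.last = ξ ∧ (∀ i, f (l₁ i) = f ξ) ∧ l.length ≤ l₁.length := by
    rcases eq_or_lt_of_le (show l₀.last ≤ ξ from (hl₀ _).1) with he | he
    · exact ⟨l₀, he, fun i => (hl₀ i).2, le_rfl⟩
    · refine ⟨l₀.snoc ξ he, RelSeries.last_snoc _ _ _, fun i => ?_, (Nat.le_succ _).trans_eq (by simp [l₀])⟩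
      rcases RelSeries.mem_snoc.mp (⟨i, rfl⟩ : (l₀.snoc ξ he) i ∈ l₀.snoc ξ he) with ⟨j, hj⟩ | hj
      · rw [← hj]; exact (hl₀ j).2
      · rw [hj]
  obtain ⟨z, hzU, hxz, hfz, hzcl⟩ := exists_closed_in_fibre f x U hx
  obtain ⟨m, hm0, hm, hmlen⟩ := exists_chain_of_specializes f l₁ (by rw [hlast]; exact hl₁) z
    (by rw [hlast]; exact h.trans hxz) hzcl
  refine le_trans ?_ (length_le_topDim m fun i => ⟨⟨?_, ?_⟩, ?_⟩)
  · exact WithBot.coe_le_coe.mpr (ENat.natCast_le_natCast.mpr (hlen.trans hmlen))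
  · have h1 : m i ⤳ z := hm0 ▸ m.monotone (Fin.zero_le i)
    exact h1.mem_open U.isOpen hzU
  · rw [← specializes_iff_mem_closure, ← hlast]
    exact (hm i).2
  · show f (m i) = f x
    rw [(hm i).1, hfz]

end Groth.Agent.FibSemi

namespace Groth.Agent.FibSemi

variable {X Y : Scheme.{u}} (f : X ⟶ Y)

theorem localDim_homeo {Z W : Type u} [TopologicalSpace Z] [TopologicalSpace W] (e : Z ≃ₜ W) (z : Z) :
    FlatMor.localDim W (e z) ≤ FlatMor.localDim Z z :=
  le_iInf fun U => iInf_le_of_le ⟨⟨e.symm ⁻¹' U.1, U.1.2.preimage e.symm.continuous⟩, by simpa using U.2⟩ (by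
    refine IsInducing.topologicalKrullDim_le (f := fun w : (e.symm ⁻¹' U.1 : Set W) => (⟨e.symm w, w.2⟩ : U.1)) ?_
    exact (IsInducing.of_comp (by fun_prop) continuous_subtype_val (e.symm.isInducing.comp IsInducing.subtypeVal)))

theorem fibreDimAt_eq (x : X) :
    FlatMor.fibreDimAt f x = FlatMor.localDim ↥(f ⁻¹' {f x}) ⟨x, rfl⟩ := by
  let e := f.fiberHomeo (f x)
  have he : e (f.asFiber x) = ⟨x, rfl⟩ := Subtype.ext (by
    show f.fiberι (f x) (f.asFiber x) = x
    exact f.fiberι_asFiber x)
  refine le_antisymm ?_ ?_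
  · have h := localDim_homeo e.symm (e (f.asFiber x))
    rw [e.symm_apply_apply, he] at h
    exact h
  · have h := localDim_homeo e (f.asFiber x)
    rw [he] at h
    exact h

/-- Chevalley semicontinuity in terms of `fibreDimAt`. -/
theorem topDim_closure_le_fibreDimAt [LocallyOfFiniteType f] {ξ x : X} (h : ξ ⤳ x) :
    topologicalKrullDim ↥(closure {ξ} ∩ f ⁻¹' {f ξ}) ≤ FlatMor.fibreDimAt f x := by
  rw [fibreDimAt_eq]
  refine le_iInf fun O => ?_
  obtain ⟨O', hO', hOO'⟩ := isOpen_induced_iff.mp O.1.2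
  have hxO : x ∈ O' := by
    have h1 : (⟨x, rfl⟩ : f ⁻¹' {f x}) ∈ Subtype.val ⁻¹' O' := hOO' ▸ O.2
    exact h1
  refine (topDim_closure_inter_fibre_le f h ⟨O', hO'⟩ hxO).trans ?_
  have hmem : ∀ w : ↥(((⟨O', hO'⟩ : X.Opens) : Set X) ∩ closure {ξ} ∩ f ⁻¹' {f x}),
      (⟨w.1, w.2.2⟩ : f ⁻¹' {f x}) ∈ (O.1 : Set (f ⁻¹' {f x})) := fun w => by
    rw [show (O.1 : Set (f ⁻¹' {f x})) = Subtype.val ⁻¹' O' from hOO'.symm]
    exact w.2.1.1
  refine IsInducing.topologicalKrullDim_le (f := fun w => (⟨⟨w.1, w.2.2⟩, hmem w⟩ : (O.1 : Set (f ⁻¹' {f x})))) ?_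
  exact IsInducing.of_comp (by fun_prop) (continuous_subtype_val.comp continuous_subtype_val)
    (IsInducing.subtypeVal)

end Groth.Agent.FibSemi
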