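import Mathlib
import Groth.Agent.FibSemi.Basic
import Groth.Agent.CycLib.DimFormula

/-!
Dimensions read off the specialization order, and the dimension inequality (EGA IV 5.5.8).
-/

set_option autoImplicit false
set_option linter.style.haveILetI false
universe u
open CategoryTheory AlgebraicGeometry Limits Topology

noncomputable section

namespace Groth.Agent.FibSemi

theorem krullDim_eq_of_embedding {Z X : Type*} [Preorder Z] [Preorder X] (i : Z → X)
    (hi : ∀ a b, i a ≤ i b ↔ a ≤ b) (hinj : Function.Injective i) (S : Set Z) (T : Set X)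
    (hT : ∀ x, x ∈ T ↔ ∃ z ∈ S, i z = x) : Order.krullDim S = Order.krullDim T := by
  let e : S ≃ T := Equiv.ofBijective (fun z => ⟨i z.1, (hT _).mpr ⟨z.1, z.2, rfl⟩⟩)
    ⟨fun a b h => Subtype.ext (hinj (congrArg Subtype.val h)), fun x => by
      obtain ⟨z, hz, hzx⟩ := (hT x.1).mp x.2
      exact ⟨⟨z, hz⟩, Subtype.ext hzx⟩⟩
  exact Order.krullDim_eq_of_orderIso { toEquiv := e, map_rel_iff' := fun {a b} => hi a.1 b.1 }

variable {X Y : Scheme.{u}} (f : X ⟶ Y)

theorem fiberι_le_iff (y : Y) (a b : f.fiber y) : f.fiberι y a ≤ f.fiberι y b ↔ a ≤ b :=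
  (f.fiberι y).isEmbedding.specializes_iff

/-- Generizations inside the fibre. -/
theorem coheight_asFiber (x : X) : ((Order.coheight (f.asFiber x) : ℕ∞) : WithBot ℕ∞) =
    Order.krullDim {z : X | f z = f x ∧ z ⤳ x} := by
  rw [Order.coheight_eq_krullDim_Ici]
  refine krullDim_eq_of_embedding (f.fiberι (f x)) (fiberι_le_iff f _) (f.fiberι (f x)).isEmbedding.injective _ _ fun z => ?_
  constructor
  · rintro ⟨hz, hzx⟩
    obtain ⟨w, rfl⟩ : z ∈ Set.range (f.fiberι (f x)) := by rw [f.range_fiberι]; exact hz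
    refine ⟨w, (fiberι_le_iff f _ _ _).mp ?_, rfl⟩
    rw [f.fiberι_asFiber]
    exact hzx
  · rintro ⟨w, hw, rfl⟩
    refine ⟨?_, ?_⟩
    · have : f.fiberι (f x) w ∈ Set.range (f.fiberι (f x)) := ⟨w, rfl⟩
      rwa [f.range_fiberι] at this
    · have h := (fiberι_le_iff f _ _ _).mpr hw
      rw [f.fiberι_asFiber] at h
      exact h

/-- Specializations inside the fibre. -/
theorem height_asFiber (x : X) : ((Order.height (f.asFiber x) : ℕ∞) : WithBot ℕ∞) =
    Order.krullDim {z : X | f z = f x ∧ x ⤳ z} := by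
  rw [Order.height_eq_krullDim_Iic]
  refine krullDim_eq_of_embedding (f.fiberι (f x)) (fiberι_le_iff f _) (f.fiberι (f x)).isEmbedding.injective _ _ fun z => ?_
  constructor
  · rintro ⟨hz, hzx⟩
    obtain ⟨w, rfl⟩ : z ∈ Set.range (f.fiberι (f x)) := by rw [f.range_fiberι]; exact hz
    refine ⟨w, (fiberι_le_iff f _ _ _).mp ?_, rfl⟩
    rw [f.fiberι_asFiber]
    exact hzx
  · rintro ⟨w, hw, rfl⟩
    refine ⟨?_, ?_⟩
    · have : f.fiberι (f x) w ∈ Set.range (f.fiberι (f x)) := ⟨w, rfl⟩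
      rwa [f.range_fiberι] at this
    · have h := (fiberι_le_iff f _ _ _).mpr hw
      rw [f.fiberι_asFiber] at h
      exact h

/-- The local dimension of the fibre: generizations plus specializations. -/
theorem fibreDimAt_eq_add [LocallyOfFiniteType f] (x : X) :
    ∃ n m : ℕ, Order.krullDim {z : X | f z = f x ∧ z ⤳ x} = n ∧
      Order.krullDim {z : X | f z = f x ∧ x ⤳ z} = m ∧ FlatMor.fibreDimAt f x = (n + m : ℕ) := by
  let k := Y.residueField (f x)
  letI : (f.fiber (f x)).Over (Spec (CommRingCat.of k)) := ⟨f.fiberToSpecResidueField (f x)⟩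
  haveI : LocallyOfFiniteType (f.fiber (f x) ↘ Spec (CommRingCat.of k)) :=
    inferInstanceAs (LocallyOfFiniteType (pullback.snd f (Y.fromSpecResidueField (f x))))
  obtain ⟨n, hn, hloc⟩ := VarDim.localDim_eq_coheight_add k (f.asFiber x)
  refine ⟨n, VarDim.dimPt k (f.fiber (f x)) (f.asFiber x), ?_, ?_, hloc⟩
  · rw [← coheight_asFiber, hn]; rfl
  · rw [← height_asFiber, VarDim.height_eq_dimPt k]; rfl

/-- Chains between two points of an affine open. -/
theorem krullDim_between {W : X.Opens} (hW : IsAffineOpen W) (q P : PrimeSpectrum Γ(X, W)) (h : q ≤ P) :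
    Order.krullDim {z : X | hW.fromSpec q ⤳ z ∧ z ⤳ hW.fromSpec P} =
      ((P.asIdeal.map (Ideal.Quotient.mk q.asIdeal)).height : WithBot ℕ∞) := by
  let O := Ideal.primeSpectrumQuotientOrderIsoZeroLocus q.asIdeal
  let P' : PrimeSpectrum (Γ(X, W) ⧸ q.asIdeal) := O.symm ⟨P, h⟩
  have hOP : (O P').1 = P := congrArg Subtype.val
    (O.apply_symm_apply (⟨P, h⟩ : PrimeSpectrum.zeroLocus (R := Γ(X, W)) (q.asIdeal : Set Γ(X, W))))
  have hP' : P.asIdeal.map (Ideal.Quotient.mk q.asIdeal) = P'.asIdeal := by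
    rw [← hOP]
    exact Ideal.map_comap_of_surjective _ Ideal.Quotient.mk_surjective _
  rw [hP', PrimeSpectrum.height_eq_orderHeight, Order.height_eq_krullDim_Iic,
    ← Order.krullDim_orderDual (α := ↥(Set.Iic P'))]
  have hle_iff : ∀ a b : PrimeSpectrum Γ(X, W), a ≤ b ↔ hW.fromSpec a ⤳ hW.fromSpec b := fun a b =>
    (PrimeSpectrum.le_iff_specializes a b).trans hW.fromSpec.isOpenEmbedding.isEmbedding.specializes_iff.symm
  have hqle : ∀ w, q ≤ (O w).1 := fun w => (O w).2
  let g : (↥(Set.Iic P'))ᵒᵈ → {z : X | hW.fromSpec q ⤳ z ∧ z ⤳ hW.fromSpec P} := fun w =>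
    ⟨hW.fromSpec (O (OrderDual.ofDual w).1).1, (hle_iff _ _).mp (hqle _), by
      rw [← hOP]
      exact (hle_iff _ _).mp (O.monotone (OrderDual.ofDual w).2)⟩
  have hg : Function.Bijective g := by
    refine ⟨fun a b hab => ?_, ?_⟩
    · have h1 : hW.fromSpec (O (OrderDual.ofDual a).1).1 = hW.fromSpec (O (OrderDual.ofDual b).1).1 :=
        (congrArg Subtype.val hab :)
      exact OrderDual.ofDual.injective
        (Subtype.ext (O.injective (Subtype.ext (hW.fromSpec.isOpenEmbedding.injective h1))))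
    rintro ⟨z, hz1, hz2⟩
    have hP : hW.fromSpec P ∈ W := by
      have : hW.fromSpec P ∈ Set.range hW.fromSpec := ⟨_, rfl⟩
      rwa [hW.range_fromSpec] at this
    obtain ⟨p, rfl⟩ := DimSpec.exists_fromSpec hW (hz2.mem_open W.isOpen hP)
    refine ⟨OrderDual.toDual ⟨O.symm ⟨p, (hle_iff _ _).mpr hz1⟩, O.symm.monotone ((hle_iff p P).mpr hz2)⟩, ?_⟩
    refine Subtype.ext ?_
    show hW.fromSpec (O (O.symm _)).1 = _
    rw [O.apply_symm_apply]
  refine (Order.krullDim_eq_of_orderIso { toEquiv := Equiv.ofBijective g hg, map_rel_iff' := ?_ }).symm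
  intro a b
  exact (hle_iff _ _).symm.trans O.le_iff_le

/-- The dimension of the closure of a point in its fibre is a transcendence degree. -/
theorem krullDim_specs [LocallyOfFiniteType f] {V : Y.Opens} (hV : IsAffineOpen V) {W : X.Opens} (hW : IsAffineOpen W)
    (eW : W ≤ f ⁻¹ᵁ V) (q : PrimeSpectrum Γ(X, W)) (N : Ideal Γ(Y, V))
    (hN : N = q.asIdeal.comap (f.appLE V W eW).hom) :
    letI : Algebra (Γ(Y, V) ⧸ N) (Γ(X, W) ⧸ q.asIdeal) :=
      (Ideal.quotientMap q.asIdeal (f.appLE V W eW).hom hN.le).toAlgebra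
    ∀ m : ℕ, Algebra.trdeg (Γ(Y, V) ⧸ N) (Γ(X, W) ⧸ q.asIdeal) = m →
      Order.krullDim {z : X | f z = f (hW.fromSpec q) ∧ hW.fromSpec q ⤳ z} = m := by
  letI : Algebra Γ(Y, V) Γ(X, W) := (f.appLE V W eW).hom.toAlgebra
  haveI : Algebra.FiniteType Γ(Y, V) Γ(X, W) := LocallyOfFiniteType.finiteType_appLE f hV hW eW
  letI : Algebra (Γ(Y, V) ⧸ N) (Γ(X, W) ⧸ q.asIdeal) :=
    (Ideal.quotientMap q.asIdeal (f.appLE V W eW).hom hN.le).toAlgebra
  haveI : IsScalarTower Γ(Y, V) (Γ(Y, V) ⧸ N) (Γ(X, W) ⧸ q.asIdeal) := IsScalarTower.of_algebraMap_eq fun _ => rfl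
  haveI := q.isPrime
  haveI : N.IsPrime := hN ▸ Ideal.comap_isPrime _ _
  haveI : IsDomain (Γ(X, W) ⧸ q.asIdeal) := Ideal.Quotient.isDomain _
  haveI : IsDomain (Γ(Y, V) ⧸ N) := Ideal.Quotient.isDomain _
  haveI : FaithfulSMul (Γ(Y, V) ⧸ N) (Γ(X, W) ⧸ q.asIdeal) := (faithfulSMul_iff_algebraMap_injective _ _).mpr
    (Ideal.quotientMap_injective' (H := hN.le) hN.ge)
  intro m hm
  have hqN : q.comap (algebraMap Γ(Y, V) Γ(X, W)) = ⟨N, inferInstance⟩ := PrimeSpectrum.ext hN.symm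
  have hindep : ∀ (n : ℕ) (a : Fin n → Γ(X, W)), DimSpec.Indep N q.asIdeal a ↔
      AlgebraicIndependent (Γ(Y, V) ⧸ N) fun j => Ideal.Quotient.mk q.asIdeal (a j) := by
    intro n a
    have key : ∀ Q : MvPolynomial (Fin n) Γ(Y, V),
        MvPolynomial.aeval (fun j => Ideal.Quotient.mk q.asIdeal (a j)) (MvPolynomial.map (algebraMap _ (Γ(Y, V) ⧸ N)) Q) = 0 ↔
          MvPolynomial.aeval a Q ∈ q.asIdeal := fun Q => by
      rw [MvPolynomial.aeval_map_algebraMap, ← Ideal.Quotient.eq_zero_iff_mem,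
        show Ideal.Quotient.mk q.asIdeal (MvPolynomial.aeval a Q) =
          Ideal.Quotient.mkₐ Γ(Y, V) q.asIdeal (MvPolynomial.aeval a Q) from rfl, ← AlgHom.comp_apply,
        MvPolynomial.comp_aeval]
      rfl
    constructor
    · intro h
      refine algebraicIndependent_iff.mpr fun G hG => ?_
      obtain ⟨Q, rfl⟩ := MvPolynomial.map_surjective (algebraMap Γ(Y, V) (Γ(Y, V) ⧸ N)) Ideal.Quotient.mk_surjective G
      by_contra hne
      obtain ⟨i, hi⟩ := MvPolynomial.ne_zero_iff.mp hne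
      rw [MvPolynomial.coeff_map] at hi
      exact h Q ⟨i, fun h' => hi (Ideal.Quotient.eq_zero_iff_mem.mpr h')⟩ ((key Q).mp hG)
    · intro h Q ⟨i, hi⟩ hQ
      have h1 := algebraicIndependent_iff.mp h _ ((key Q).mpr hQ)
      have h2 := congrArg (MvPolynomial.coeff i) h1
      rw [MvPolynomial.coeff_map, MvPolynomial.coeff_zero] at h2
      exact hi (Ideal.Quotient.eq_zero_iff_mem.mp h2)
  have hover : ∀ a b : PrimeSpectrum Γ(X, W),
      f (hW.fromSpec a) = f (hW.fromSpec b) ↔ a.comap (algebraMap Γ(Y, V) Γ(X, W)) = b.comap (algebraMap Γ(Y, V) Γ(X, W)) := fun a b => by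
    rw [DimSpec.app_fromSpec hV hW eW, DimSpec.app_fromSpec hV hW eW]
    exact hV.fromSpec.isOpenEmbedding.injective.eq_iff
  have hle_iff : ∀ a b : PrimeSpectrum Γ(X, W), a ≤ b ↔ hW.fromSpec a ⤳ hW.fromSpec b := fun a b =>
    (PrimeSpectrum.le_iff_specializes a b).trans hW.fromSpec.isOpenEmbedding.isEmbedding.specializes_iff.symm
  refine le_antisymm (iSup_le fun l => ?_) ?_
  · -- a chain gives independent elements
    let l₀ : LTSeries X := l.map Subtype.val fun _ _ h => h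
    obtain ⟨l₁, hlast, hl₁, hlen⟩ : ∃ l₁ : LTSeries X, l₁.last = hW.fromSpec q ∧
        (∀ i, f (l₁ i) = f (hW.fromSpec q)) ∧ l.length ≤ l₁.length := by
      by_cases heq : l₀.last = hW.fromSpec q
      swap
      · have he : l₀.last < hW.fromSpec q := lt_of_le_not_ge (l.last).2.2 fun h => heq
          ((show Specializes _ _ from h).antisymm (l.last).2.2).eq
        refine ⟨l₀.snoc _ he, RelSeries.last_snoc _ _ _, fun i => ?_, (Nat.le_succ _).trans_eq (by simp [l₀])⟩
        rcases RelSeries.mem_snoc.mp (⟨i, rfl⟩ : (l₀.snoc _ he) i ∈ l₀.snoc _ he) with ⟨j, hj⟩ | hj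
        · rw [← hj]; exact (l j).2.1
        · rw [hj]
      · exact ⟨l₀, heq, fun i => (l i).2.1, le_rfl⟩
    have hqW : hW.fromSpec q ∈ W := by
      have : hW.fromSpec q ∈ Set.range hW.fromSpec := ⟨_, rfl⟩
      rwa [hW.range_fromSpec] at this
    obtain ⟨l', hlast', hl', hlen'⟩ := exists_chain_top f l₁ (by rw [hlast]; exact hl₁) W (hlast ▸ hqW)
    choose p hp using fun i => DimSpec.exists_fromSpec hW (hl' i).2
    have hstr : StrictMono (fun j : Fin (l'.length + 1) => p j.rev) := fun i j hij => by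
      have h0 := l'.strictMono (Fin.rev_lt_rev.mpr hij)
      refine lt_of_le_not_ge ((hle_iff _ _).mpr (by rw [hp, hp]; exact h0.le)) fun h => ?_
      exact h0.not_ge (by rw [← hp, ← hp]; exact (hle_iff _ _).mp h)
    obtain ⟨a, ha⟩ := DimSpec.exists_indep_of_chain (A := Γ(Y, V)) N (LTSeries.mk l'.length _ hstr) fun i => by
      rw [← hqN]
      exact (hover _ _).mp ((congrArg f (hp _)).trans ((hl' _).1.trans (congrArg f hlast)))
    have hhead : (LTSeries.mk l'.length _ hstr).head = q := by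
      show p (Fin.rev 0) = q
      rw [Fin.rev_zero]
      exact hW.fromSpec.isOpenEmbedding.injective ((hp _).trans (hlast'.trans hlast))
    rw [hhead] at ha
    have h1 := ((hindep _ a).mp ha).lift_cardinalMk_le_trdeg
    rw [hm] at h1
    have h2 : l'.length ≤ m := by simpa using h1
    exact WithBot.coe_le_coe.mpr (ENat.natCast_le_natCast.mpr ((hlen.trans hlen').trans h2))
  · -- independent generators give a chain
    haveI : Algebra.FiniteType Γ(Y, V) (Γ(X, W) ⧸ q.asIdeal) :=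
      .of_surjective (Ideal.Quotient.mkₐ _ q.asIdeal) Ideal.Quotient.mk_surjective
    obtain ⟨t, ht⟩ := exists_isTranscendenceBasis (Γ(Y, V) ⧸ N) (Γ(X, W) ⧸ q.asIdeal)
    have hcard : Cardinal.mk t = m := by rw [ht.cardinalMk_eq_trdeg, hm]
    obtain ⟨et⟩ := Cardinal.mk_eq_nat_iff.mp hcard
    choose r hr using fun x : t => Ideal.Quotient.mk_surjective (x : Γ(X, W) ⧸ q.asIdeal)
    have ha : DimSpec.Indep N q.asIdeal fun j => r (et.symm j) := by
      refine (hindep _ _).mpr ?_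
      convert ht.1.comp et.symm et.symm.injective using 1
      funext j
      exact hr _
    obtain ⟨l, hlen, hl⟩ := DimSpec.exists_chain_of_indep (A := Γ(Y, V)) N q hqN _ ha
    have hstr : StrictMono (fun j : Fin (l.length + 1) =>
        (⟨hW.fromSpec (l j.rev), (hover _ _).mpr ((hl _).2.trans hqN.symm), (hle_iff _ _).mp (hl _).1⟩ :
          {z : X | f z = f (hW.fromSpec q) ∧ hW.fromSpec q ⤳ z})) := fun i j hij => by
      have h0 := l.strictMono (Fin.rev_lt_rev.mpr hij)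
      exact lt_of_le_not_ge ((hle_iff _ _).mp h0.le) fun h => h0.not_ge ((hle_iff _ _).mpr h)
    refine le_trans (le_of_eq ?_) (Order.le_krullDim_iff.mpr ⟨LTSeries.mk l.length _ hstr, rfl⟩)
    show _ = ((l.length : ℕ∞) : WithBot ℕ∞)
    rw [hlen]
    rfl

end Groth.Agent.FibSemi

namespace Groth.Agent.FibSemi

variable {X Y : Scheme.{u}} (f : X ⟶ Y)

/-- The dimension inequality along `ξ ⤳ x`: `dim O_{Z,x} + tr(κx/κy) ≤ dim O_{Y',y} + tr(κξ/κη)`, with every
term read off the specialization order. -/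
theorem dim_inequality [LocallyOfFiniteType f] [IsLocallyNoetherian Y] {ξ x : X} (h : ξ ⤳ x) :
    ∃ b t a e : ℕ, Order.krullDim {z : X | ξ ⤳ z ∧ z ⤳ x} = b ∧
      Order.krullDim {z : X | f z = f x ∧ x ⤳ z} = t ∧
      Order.krullDim {z : Y | f ξ ⤳ z ∧ z ⤳ f x} = a ∧
      Order.krullDim {z : X | f z = f ξ ∧ ξ ⤳ z} = e ∧ b + t ≤ a + e := by
  obtain ⟨V, hV, hyV, -⟩ := exists_isAffineOpen_mem_and_subset (U := ⊤) (x := f x) trivial
  obtain ⟨W, hW, hxW, eWsub⟩ := exists_isAffineOpen_mem_and_subset (U := f ⁻¹ᵁ V) (x := x) hyV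
  have eW : W ≤ f ⁻¹ᵁ V := eWsub
  letI : Algebra Γ(Y, V) Γ(X, W) := (f.appLE V W eW).hom.toAlgebra
  haveI : Algebra.FiniteType Γ(Y, V) Γ(X, W) := LocallyOfFiniteType.finiteType_appLE f hV hW eW
  haveI : IsNoetherianRing Γ(Y, V) := IsLocallyNoetherian.component_noetherian ⟨V, hV⟩
  obtain ⟨P, rfl⟩ := DimSpec.exists_fromSpec hW hxW
  obtain ⟨q, rfl⟩ := DimSpec.exists_fromSpec hW (h.mem_open W.isOpen hxW)
  have hqP : q ≤ P := (PrimeSpectrum.le_iff_specializes q P).mpr
    (hW.fromSpec.isOpenEmbedding.isEmbedding.specializes_iff.mp h)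
  let N : PrimeSpectrum Γ(Y, V) := q.comap (algebraMap Γ(Y, V) Γ(X, W))
  let p : PrimeSpectrum Γ(Y, V) := P.comap (algebraMap Γ(Y, V) Γ(X, W))
  have hNp : N ≤ p := Ideal.comap_mono hqP
  haveI := q.isPrime; haveI := P.isPrime; haveI := N.isPrime; haveI := p.isPrime
  let A' := Γ(Y, V) ⧸ N.asIdeal
  let S := Γ(X, W) ⧸ q.asIdeal
  letI algAS : Algebra A' S := (Ideal.quotientMap q.asIdeal (f.appLE V W eW).hom le_rfl).toAlgebra
  haveI : IsScalarTower Γ(Y, V) A' S := IsScalarTower.of_algebraMap_eq fun _ => rfl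
  haveI : IsDomain A' := Ideal.Quotient.isDomain _
  haveI : IsDomain S := Ideal.Quotient.isDomain _
  haveI : FaithfulSMul A' S := (faithfulSMul_iff_algebraMap_injective _ _).mpr
    (Ideal.quotientMap_injective' (H := le_rfl) le_rfl)
  haveI : Algebra.FiniteType Γ(Y, V) S :=
    .of_surjective (Ideal.Quotient.mkₐ _ q.asIdeal) Ideal.Quotient.mk_surjective
  haveI : Algebra.FiniteType A' S := .of_restrictScalars_finiteType Γ(Y, V) A' S
  let p' : Ideal A' := p.asIdeal.map (Ideal.Quotient.mk N.asIdeal)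
  let P' : Ideal S := P.asIdeal.map (Ideal.Quotient.mk q.asIdeal)
  haveI hp'prime : p'.IsPrime := Ideal.map_isPrime_of_surjective Ideal.Quotient.mk_surjective (by rw [Ideal.mk_ker]; exact hNp)
  haveI : P'.IsPrime := Ideal.map_isPrime_of_surjective Ideal.Quotient.mk_surjective (by rw [Ideal.mk_ker]; exact hqP)
  haveI hlies : P'.LiesOver p' := ⟨by
    have h1 : (P'.comap (algebraMap A' S)).comap (Ideal.Quotient.mk N.asIdeal) = p.asIdeal := by
      rw [Ideal.comap_comap, show (algebraMap A' S).comp (Ideal.Quotient.mk N.asIdeal) =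
        (Ideal.Quotient.mk q.asIdeal).comp (algebraMap Γ(Y, V) Γ(X, W)) from rfl, ← Ideal.comap_comap,
        Ideal.comap_map_of_surjective _ Ideal.Quotient.mk_surjective, ← RingHom.ker_eq_comap_bot, Ideal.mk_ker,
        sup_eq_left.mpr hqP]
      rfl
    show p' = P'.comap (algebraMap A' S)
    rw [show p' = p.asIdeal.map (Ideal.Quotient.mk N.asIdeal) from rfl, ← h1,
      Ideal.map_comap_of_surjective _ Ideal.Quotient.mk_surjective]⟩
  obtain ⟨b, a, t, e, hb, ha, ht, he, hle, -⟩ := CycLib.height_add_trdeg (A := A') (S := S) p' P'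
  refine ⟨b, t, a, e, ?_, ?_, ?_, ?_, hle⟩
  · rw [krullDim_between hW q P hqP, hb]; rfl
  · refine krullDim_specs f hV hW eW P p.asIdeal rfl t ?_
    letI : Algebra (Γ(Y, V) ⧸ p.asIdeal) (Γ(X, W) ⧸ P.asIdeal) :=
      (Ideal.quotientMap P.asIdeal (f.appLE V W eW).hom le_rfl).toAlgebra
    rw [← ht]
    refine CycLib.trdeg_congr (DoubleQuot.quotQuotEquivQuotOfLE hNp).symm
      (DoubleQuot.quotQuotEquivQuotOfLE hqP).symm fun x => ?_
    obtain ⟨x, rfl⟩ := Ideal.Quotient.mk_surjective x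
    rfl
  · rw [DimSpec.app_fromSpec hV hW eW, DimSpec.app_fromSpec hV hW eW]
    exact (krullDim_between hV N p hNp).trans (by rw [ha]; rfl)
  · exact krullDim_specs f hV hW eW q N.asIdeal rfl e he

end Groth.Agent.FibSemi

namespace Groth.Agent.FibSemi

variable {X Y : Scheme.{u}} (f : X ⟶ Y)

theorem topDim_closure_inter_fibre_eq (ξ : X) (y : Y) :
    topologicalKrullDim ↥(closure {ξ} ∩ f ⁻¹' {y}) = Order.krullDim {z : X | f z = y ∧ ξ ⤳ z} := by
  let S := closure {ξ} ∩ f ⁻¹' {y}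
  let Sf : Set (f ⁻¹' {y}) := Subtype.val ⁻¹' closure {ξ}
  haveI : QuasiSober (f ⁻¹' {y}) := (f.fiberHomeo y).symm.isClosedEmbedding.quasiSober
  haveI : QuasiSober Sf := (isClosed_closure.preimage continuous_subtype_val).isClosedEmbedding_subtypeVal.quasiSober
  let e : Sf ≃ₜ S :=
    { toFun := fun x => ⟨x.1.1, x.2, x.1.2⟩
      invFun := fun x => ⟨⟨x.1, x.2.2⟩, x.2.1⟩
      left_inv := fun _ => rfl
      right_inv := fun _ => rfl
      continuous_toFun := by fun_prop
      continuous_invFun := by fun_prop }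
  haveI : QuasiSober S := e.symm.isClosedEmbedding.quasiSober
  rw [show topologicalKrullDim ↥(closure {ξ} ∩ f ⁻¹' {y}) = Order.krullDim S from
    (DimLift.topDim_eq_krullDim_points (X := S)).trans (by
      congr 1
      exact Preorder.ext fun a b => subtype_specializes_iff b a)]
  refine krullDim_eq_of_embedding id (fun _ _ => Iff.rfl) Function.injective_id _ _ fun z => ?_
  exact ⟨fun hz => ⟨z, ⟨specializes_iff_mem_closure.mp hz.2, hz.1⟩, rfl⟩,
    fun ⟨w, hw, h⟩ => h ▸ ⟨hw.2, specializes_iff_mem_closure.mpr hw.1⟩⟩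

theorem krullDim_mono {S T : Set X} (h : S ⊆ T) : Order.krullDim S ≤ Order.krullDim T :=
  Order.krullDim_le_of_strictMono (Set.inclusion h) fun _ _ hab => hab

/-- The dimension of a local ring counts generizations. -/
theorem ringKrullDim_stalk_eq (x : X) :
    ringKrullDim (X.presheaf.stalk x) = Order.krullDim {z : X | z ⤳ x} := by
  rw [AlgebraicGeometry.ringKrullDim_stalk_eq_coheight, Order.coheight_eq_krullDim_Ici]
  rfl

end Groth.Agent.FibSemi
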