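import Mathlib
import Groth.Agent.FibSemi.Dims
import Groth.Agent.FlatMisc.FibreDimScheme
import Groth.Prelude.Def_EGA43

/-!
Criterion for equidimensionality at a point.
-/

set_option autoImplicit false
set_option linter.style.haveILetI false
universe u
open CategoryTheory AlgebraicGeometry Limits Topology

noncomputable section

namespace Groth.Agent.FibSemi

variable {X Y : Scheme.{u}} (f : X ⟶ Y)

/-- A point with no proper generization. -/
theorem exists_max_specializes (x : X) : ∃ ξ : X, ξ ⤳ x ∧ ∀ z, z ⤳ ξ → z = ξ := by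
  obtain ⟨ξ, hξ⟩ := QuasiSober.sober (isIrreducible_irreducibleComponent (x := x)) isClosed_irreducibleComponent
  exact ⟨ξ, hξ.specializes mem_irreducibleComponent,
    QSect.max_of_component (irreducibleComponent_mem_irreducibleComponents x) hξ⟩

/-- A generization in the fibre with no further generization in the fibre, of maximal dimension. -/
theorem exists_max_fibre [LocallyOfFiniteType f] (x : X) :
    ∃ c : X, c ⤳ x ∧ f c = f x ∧ (∀ z, f z = f x → z ⤳ c → z = c) ∧
      ∃ n m e : ℕ, Order.krullDim {z : X | f z = f x ∧ z ⤳ x} = n ∧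
        Order.krullDim {z : X | f z = f x ∧ x ⤳ z} = m ∧ FlatMor.fibreDimAt f x = e ∧
        Order.krullDim {z : X | f z = f c ∧ c ⤳ z} = e ∧ e = n + m := by
  let k := Y.residueField (f x)
  let F := f.fiber (f x)
  letI : F.Over (Spec (CommRingCat.of k)) := ⟨f.fiberToSpecResidueField (f x)⟩
  haveI : LocallyOfFiniteType (F ↘ Spec (CommRingCat.of k)) :=
    inferInstanceAs (LocallyOfFiniteType (pullback.snd f (Y.fromSpecResidueField (f x))))
  obtain ⟨η, hle, hub, heq⟩ := VarDim.exists_localDim_eq k (f.asFiber x)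
  obtain ⟨n, m, hn, hm, hfd⟩ := fibreDimAt_eq_add f x
  have hfc : f (f.fiberι (f x) η) = f x := by
    have : f.fiberι (f x) η ∈ Set.range (f.fiberι (f x)) := ⟨η, rfl⟩
    rwa [f.range_fiberι] at this
  have hcx : f.fiberι (f x) η ⤳ x := by
    have h := (fiberι_le_iff f _ _ _).mpr hle
    rw [f.fiberι_asFiber] at h
    exact h
  refine ⟨_, hcx, hfc, fun z hz hzc => ?_, n, m, n + m, hn, hm, hfd, ?_, rfl⟩
  · obtain ⟨w, rfl⟩ : z ∈ Set.range (f.fiberι (f x)) := by rw [f.range_fiberι]; exact hz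
    have hw : η ≤ w := (fiberι_le_iff f _ _ _).mp hzc
    by_contra hne
    have hlt : η < w := lt_of_le_not_ge hw fun h => hne (congrArg _
      ((show Specializes η w from h).antisymm hw).eq.symm)
    have := hub w (hle.trans hw)
    have := VarDim.dimPt_lt_of_lt k hlt
    omega
  · have h : FlatMor.fibreDimAt f x = (VarDim.dimPt k F η : WithBot ℕ∞) := heq
    rw [hfd] at h
    have h2 : ((Order.height η : ℕ∞) : WithBot ℕ∞) =
        Order.krullDim {z : X | f z = f (f.fiberι (f x) η) ∧ f.fiberι (f x) η ⤳ z} := by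
      rw [Order.height_eq_krullDim_Iic]
      refine krullDim_eq_of_embedding (f.fiberι (f x)) (fiberι_le_iff f _) (f.fiberι (f x)).isEmbedding.injective _ _
        fun z => ?_
      constructor
      · rintro ⟨hz, hzx⟩
        obtain ⟨w, rfl⟩ : z ∈ Set.range (f.fiberι (f x)) := by rw [f.range_fiberι]; exact hz.trans hfc
        exact ⟨w, (fiberι_le_iff f _ _ _).mp hzx, rfl⟩
      · rintro ⟨w, hw, rfl⟩
        refine ⟨?_, (fiberι_le_iff f _ _ _).mpr hw⟩
        have : f.fiberι (f x) w ∈ Set.range (f.fiberι (f x)) := ⟨w, rfl⟩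
        rw [f.range_fiberι] at this
        exact (show f (f.fiberι (f x) w) = f x from this).trans hfc.symm
    rw [← h2, VarDim.height_eq_dimPt k]
    exact h.symm

theorem le_of_specializes_open (U : X.Opens) (a b : U.toScheme) : U.ι a ⤳ U.ι b ↔ a ⤳ b :=
  U.ι.isEmbedding.specializes_iff

/-- Dimensions in fibres are local. -/
theorem krullDim_specs_opens [LocallyOfFiniteType f] (U : X.Opens) (c : U.toScheme) :
    Order.krullDim {z : U.toScheme | (U.ι ≫ f) z = (U.ι ≫ f) c ∧ c ⤳ z} =
      Order.krullDim {z : X | f z = f (U.ι c) ∧ U.ι c ⤳ z} := by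
  refine le_antisymm ?_ ?_
  · refine Order.krullDim_le_of_strictMono
      (fun z => ⟨U.ι z.1, z.2.1, z.2.2.map U.ι.continuous⟩) fun p q hpq => ?_
    exact ⟨hpq.le.map U.ι.continuous, fun h => hpq.not_ge ((le_of_specializes_open U _ _).mp h)⟩
  · refine iSup_le fun l => ?_
    let l₀ : LTSeries X := l.map Subtype.val fun _ _ h => h
    obtain ⟨l₁, hlast, hl₁, hlen⟩ : ∃ l₁ : LTSeries X, l₁.last = U.ι c ∧
        (∀ i, f (l₁ i) = f (U.ι c)) ∧ l.length ≤ l₁.length := by
      by_cases heq : l₀.last = U.ι c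
      swap
      · have he : l₀.last < U.ι c := lt_of_le_not_ge (l.last).2.2 fun h => heq
          ((show Specializes _ _ from h).antisymm (l.last).2.2).eq
        refine ⟨l₀.snoc _ he, RelSeries.last_snoc _ _ _, fun i => ?_, (Nat.le_succ _).trans_eq (by simp [l₀])⟩
        rcases RelSeries.mem_snoc.mp (⟨i, rfl⟩ : (l₀.snoc _ he) i ∈ l₀.snoc _ he) with ⟨j, hj⟩ | hj
        · rw [← hj]; exact (l j).2.1
        · rw [hj]
      · exact ⟨l₀, heq, fun i => (l i).2.1, le_rfl⟩
    obtain ⟨m, hmlast, hm, hmlen⟩ := exists_chain_top f l₁ (by rw [hlast]; exact hl₁) U (hlast ▸ c.2)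
    choose w hw using fun i => (show m i ∈ Set.range U.ι by rw [Scheme.Opens.range_ι]; exact (hm i).2)
    have hstr : StrictMono (fun i => (⟨w i, (congrArg f (hw i)).trans ((hm i).1.trans (congrArg f hlast)),
        (le_of_specializes_open U _ _).mp (by
          rw [hw, ← hlast, ← hmlast]
          exact m.monotone (Fin.le_last i))⟩ : {z : U.toScheme | (U.ι ≫ f) z = (U.ι ≫ f) c ∧ c ⤳ z})) := fun i j hij => by
      have h0 := m.strictMono hij
      refine ⟨(le_of_specializes_open U _ _).mp (by rw [hw, hw]; exact h0.le), fun h => h0.not_ge ?_⟩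
      rw [← hw, ← hw]
      exact Specializes.map h U.ι.continuous
    refine le_trans ?_ (Order.le_krullDim_iff.mpr ⟨LTSeries.mk m.length _ hstr, rfl⟩)
    exact WithBot.coe_le_coe.mpr (ENat.natCast_le_natCast.mpr (hlen.trans hmlen))

/-- Criterion: generic points dominate with fibre dimension `d`, and `d` bounds the fibre dimension nearby. -/
theorem isEquidimAt_of [LocallyOfFiniteType f] [IrreducibleSpace Y] (w : X) (U : X.Opens) (hw : w ∈ U) (d : ℕ)
    (hmax : ∀ ξ ∈ U, (∀ z, z ⤳ ξ → z = ξ) →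
      f ξ = genericPoint Y ∧ Order.krullDim {z : X | f z = f ξ ∧ ξ ⤳ z} = d)
    (hle : ∀ z ∈ U, FlatMor.fibreDimAt f z ≤ d) : EGA43.IsEquidimAt f w := by
  refine ⟨d, U, hw, fun Z hZ => ⟨Set.univ, ?_, Set.mem_univ _, ?_⟩, fun x' C hC => ?_⟩
  · rw [irreducibleComponents_eq_singleton]
    exact rfl
  · haveI : QuasiSober ↥U := U.isOpen.isOpenEmbedding_subtypeVal.quasiSober
    obtain ⟨ξ, hξ⟩ := QuasiSober.sober hZ.1 (isClosed_of_mem_irreducibleComponents Z hZ)
    have hξmax : ∀ z : X, z ⤳ U.ι ξ → z = U.ι ξ := fun z hz => by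
      obtain ⟨z', rfl⟩ : z ∈ Set.range U.ι := by
        rw [Scheme.Opens.range_ι]; exact hz.mem_open U.isOpen ξ.2
      exact congrArg _ (QSect.max_of_component hZ hξ z' ((le_of_specializes_open U _ _).mp hz))
    refine Set.eq_univ_of_univ_subset ((genericPoint_spec Y).symm.subset.trans (closure_mono ?_))
    rw [Set.singleton_subset_iff]
    exact ⟨ξ, hξ.mem, (hmax _ ξ.2 hξmax).1⟩
  · let g : U.toScheme ⟶ Y := U.ι ≫ f
    let y := g x'
    let k := Y.residueField y
    letI : (g.fiber y).Over (Spec (CommRingCat.of k)) := ⟨g.fiberToSpecResidueField y⟩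
    haveI : LocallyOfFiniteType (g.fiber y ↘ Spec (CommRingCat.of k)) :=
      inferInstanceAs (LocallyOfFiniteType (pullback.snd g (Y.fromSpecResidueField y)))
    obtain ⟨c', hc'⟩ := QuasiSober.sober hC.1 (isClosed_of_mem_irreducibleComponents C hC)
    rw [← hc'.def, QSect.topDim_closure_singleton]
    let c := g.fiberι y c'
    have hgc : g c = y := by
      have : c ∈ Set.range (g.fiberι y) := ⟨c', rfl⟩
      rwa [g.range_fiberι] at this
    have h1 : ((Order.height c' : ℕ∞) : WithBot ℕ∞) = Order.krullDim {z : U.toScheme | g z = g c ∧ c ⤳ z} := by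
      rw [Order.height_eq_krullDim_Iic]
      refine krullDim_eq_of_embedding (g.fiberι y) (fiberι_le_iff g _) (g.fiberι y).isEmbedding.injective _ _
        fun z => ?_
      constructor
      · rintro ⟨hz, hzx⟩
        obtain ⟨v, rfl⟩ : z ∈ Set.range (g.fiberι y) := by rw [g.range_fiberι]; exact hz.trans hgc
        exact ⟨v, (fiberι_le_iff g _ _ _).mp hzx, rfl⟩
      · rintro ⟨v, hv, rfl⟩
        refine ⟨?_, (fiberι_le_iff g _ _ _).mpr hv⟩
        have : g.fiberι y v ∈ Set.range (g.fiberι y) := ⟨v, rfl⟩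
        rw [g.range_fiberι] at this
        exact (show g (g.fiberι y v) = y from this).trans hgc.symm
    rw [h1, krullDim_specs_opens f U c]
    obtain ⟨n, m, hn, hm, hfd⟩ := fibreDimAt_eq_add f (U.ι c)
    have hn0 : n = 0 := by
      have h0 : Order.krullDim {z : X | f z = f (U.ι c) ∧ z ⤳ U.ι c} ≤ 0 := by
        haveI : Subsingleton {z : X | f z = f (U.ι c) ∧ z ⤳ U.ι c} := by
          refine ⟨fun a b => Subtype.ext ?_⟩
          suffices H : ∀ z : {z : X | f z = f (U.ι c) ∧ z ⤳ U.ι c}, z.1 = U.ι c from (H a).trans (H b).symm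
          rintro ⟨z, hz, hzc⟩
          obtain ⟨z', rfl⟩ : z ∈ Set.range U.ι := by
            rw [Scheme.Opens.range_ι]; exact hzc.mem_open U.isOpen c.2
          obtain ⟨v, rfl⟩ : z' ∈ Set.range (g.fiberι y) := by rw [g.range_fiberι]; exact hz.trans hgc
          have hvc : v ⤳ c' := (g.fiberι y).isEmbedding.specializes_iff.mp ((le_of_specializes_open U _ _).mp hzc)
          show U.ι (g.fiberι y v) = U.ι c
          rw [QSect.max_of_component hC hc' v hvc]
        exact Order.krullDim_nonpos_of_subsingleton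
      rw [hn] at h0
      exact Nat.le_zero.mp (ENat.natCast_le_natCast.mp (WithBot.coe_le_coe.mp h0))
    subst hn0
    rw [zero_add] at hfd
    obtain ⟨ξ, hξc, hξmax⟩ := exists_max_specializes (U.ι c)
    obtain ⟨hfξ, hξd⟩ := hmax ξ (hξc.mem_open U.isOpen c.2) hξmax
    have h2 := topDim_closure_le_fibreDimAt f hξc
    rw [topDim_closure_inter_fibre_eq, hξd, hfd] at h2
    have h3 := hle _ c.2
    change FlatMor.fibreDimAt f (U.ι c) ≤ _ at h3
    rw [hfd] at h3
    rw [hm]
    exact le_antisymm h3 h2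

end Groth.Agent.FibSemi

namespace Groth.Agent.FibSemi

variable {X Y : Scheme.{u}} (f : X ⟶ Y)

/-- What equidimensionality at a point gives, read on points. -/
theorem facts_of_isEquidimAt [LocallyOfFiniteType f] [IrreducibleSpace Y] {x : X} (hf : EGA43.IsEquidimAt f x) :
    ∃ (e : ℕ) (U : X.Opens), x ∈ U ∧ (∀ z ∈ U, (∀ z', z' ⤳ z → z' = z) → f z = genericPoint Y) ∧
      ∀ c ∈ U, (∀ z, f z = f c → z ⤳ c → z = c) →
        Order.krullDim {z : X | f z = f c ∧ c ⤳ z} = e := by
  obtain ⟨e, U, hxU, hcomp, hdim⟩ := hf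
  refine ⟨e, U, hxU, fun z hz hzmax => ?_, fun c hc hcmax => ?_⟩
  · haveI : QuasiSober ↥U := U.isOpen.isOpenEmbedding_subtypeVal.quasiSober
    let z' : U.toScheme := ⟨z, hz⟩
    let Z : Set U.toScheme := closure {z'}
    have hZ : Z ∈ irreducibleComponents U.toScheme := by
      refine ⟨isIrreducible_singleton.closure, fun T hT hle => ?_⟩
      obtain ⟨t, ht⟩ := QuasiSober.sober (α := U.toScheme) hT.closure isClosed_closure
      have h1 : t ⤳ z' := ht.specializes (subset_closure (hle (subset_closure rfl)))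
      have h2 : t = z' := U.ι.injective (hzmax _ (h1.map U.ι.continuous))
      subst h2
      exact subset_closure.trans ht.symm.subset
    obtain ⟨W, hW, -, hcl⟩ := hcomp Z hZ
    rw [irreducibleComponents_eq_singleton] at hW
    subst hW
    rw [closure_image_closure (U.ι ≫ f).continuous, Set.image_singleton] at hcl
    exact IsGenericPoint.eq (show IsGenericPoint (f z) Set.univ from hcl) (genericPoint_spec Y)
  · let g : U.toScheme ⟶ Y := U.ι ≫ f
    let c' : U.toScheme := ⟨c, hc⟩
    let w := g.asFiber c'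
    have hwmax : ∀ v, v ⤳ w → v = w := fun v hv => by
      have h1 : g.fiberι (g c') v ⤳ c' := by
        have h0 := hv.map (g.fiberι (g c')).continuous
        rw [g.fiberι_asFiber] at h0
        exact h0
      have h2 : f (U.ι (g.fiberι (g c') v)) = f c := by
        have : g.fiberι (g c') v ∈ Set.range (g.fiberι (g c')) := ⟨v, rfl⟩
        rw [g.range_fiberι] at this
        exact this
      exact (g.fiberι (g c')).isEmbedding.injective
        ((U.ι.injective (hcmax _ h2 (h1.map U.ι.continuous))).trans (g.fiberι_asFiber c').symm)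
    let Z : Set (g.fiber (g c')) := closure {w}
    have hZ : Z ∈ irreducibleComponents (g.fiber (g c')) := by
      refine ⟨isIrreducible_singleton.closure, fun T hT hle => ?_⟩
      obtain ⟨t, ht⟩ := QuasiSober.sober hT.closure isClosed_closure
      have h1 : t ⤳ w := ht.specializes (subset_closure (hle (subset_closure rfl)))
      rw [hwmax t h1] at ht
      exact subset_closure.trans ht.symm.subset
    have h := hdim c' Z hZ
    rw [QSect.topDim_closure_singleton] at h
    show Order.krullDim {z : X | f z = f (U.ι c') ∧ U.ι c' ⤳ z} = e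
    rw [← krullDim_specs_opens f U c', ← height_asFiber g c']
    exact h

end Groth.Agent.FibSemi

namespace Groth.Agent.FibSemi

variable {X Y : Scheme.{u}} (f : X ⟶ Y)

/-- The local dimension of the fibre at a point of an equidimensional open. -/
theorem fibreDimAt_of_facts [LocallyOfFiniteType f] {e : ℕ} {U : X.Opens}
    (hM : ∀ c ∈ U, (∀ z, f z = f c → z ⤳ c → z = c) → Order.krullDim {z : X | f z = f c ∧ c ⤳ z} = e)
    {x : X} (hx : x ∈ U) : FlatMor.fibreDimAt f x = e := by
  obtain ⟨c, hcx, hfc, hcmax, n, m, e', hn, hm, hfd, hc, -⟩ := exists_max_fibre f x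
  rw [hM c (hcx.mem_open U.isOpen hx) (fun z hz => hcmax z (hz.trans hfc))] at hc
  rw [hfd]
  exact hc.symm

/-- Codimension count in an equidimensional morphism. -/
theorem codim_core [LocallyOfFiniteType f] [IrreducibleSpace Y] {e : ℕ} {U : X.Opens}
    (hgen : ∀ z ∈ U, (∀ z', z' ⤳ z → z' = z) → f z = genericPoint Y)
    (hM : ∀ c ∈ U, (∀ z, f z = f c → z ⤳ c → z = c) → Order.krullDim {z : X | f z = f c ∧ c ⤳ z} = e)
    {x' : X} (hx' : x' ∈ U) (n d : ℕ) (hd : Order.krullDim {z : X | f z = f x' ∧ x' ⤳ z} = d)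
    (hcod : Order.krullDim {z : X | z ⤳ x'} ≤ n) (h : d + n ≤ e) :
    Order.krullDim {z : X | z ⤳ x'} = n ∧ f x' = genericPoint Y ∧ d + n = e := by
  obtain ⟨c, hcx, hfc, hcmax, k, m, e', hk, hm, -, hc, heq⟩ := exists_max_fibre f x'
  rw [hM c (hcx.mem_open U.isOpen hx') (fun z hz => hcmax z (hz.trans hfc))] at hc
  have he : e = e' := by exact_mod_cast hc
  have hmd : m = d := by rw [hd] at hm; exact_mod_cast hm.symm
  have h1 : (k : WithBot ℕ∞) ≤ Order.krullDim {z : X | z ⤳ x'} := hk ▸ krullDim_mono fun z hz => hz.2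
  have h2 : k ≤ n := by exact_mod_cast h1.trans hcod
  have hkn : k = n := by omega
  subst hkn
  refine ⟨le_antisymm hcod h1, ?_, by omega⟩
  by_contra hne
  obtain ⟨l, hl⟩ := Order.le_krullDim_iff.mp (le_of_eq hk.symm : ((k : ℕ∞) : WithBot ℕ∞) ≤ _)
  have htopU : (l.last).1 ∈ U := (l.last).2.2.mem_open U.isOpen hx'
  obtain ⟨z, hz, hzne⟩ : ∃ z : X, z ⤳ (l.last).1 ∧ z ≠ (l.last).1 := by
    by_contra! hall
    exact hne ((l.last).2.1 ▸ hgen _ htopU hall)
  let l₁ : LTSeries {z : X | z ⤳ x'} :=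
    (l.map (fun z => (⟨z.1, z.2.2⟩ : {z : X | z ⤳ x'})) fun _ _ h => h).snoc ⟨z, hz.trans (l.last).2.2⟩
      ⟨hz, fun h => hzne (hz.antisymm h).eq⟩
  have h3 := (Order.le_krullDim_iff.mpr ⟨l₁, rfl⟩).trans hcod
  have h4 : l₁.length = k + 1 := by rw [← hl]; rfl
  rw [h4] at h3
  have h5 : k + 1 ≤ k := by exact_mod_cast h3
  omega

end Groth.Agent.FibSemi
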